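import Cfsg.Agent.LieClassical.OrthThreeOmega
import Cfsg.Agent.LieClassical.OrthForms
import Cfsg.Agent.LieClassical.OrthFinite

/-!
# S3831: three-dimensional nondegenerate subspaces of orthogonal spaces (helper16)

* `glue p j h` : automorphisms of `U` as automorphisms of `V`, `p j = 1`;
* `Fr3 Q x y w` : `x, y` a hyperbolic pair, `w` orthogonal to both, `Q w ≠ 0`;
* `OW` : the isometries which are trivial on the orthogonal complement; `map_O` : `OW` is the image of `O₃`;
* `map_comm` : `[OW, OW]` is the image of `Ω₃`.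
-/

set_option autoImplicit false
set_option linter.unusedSectionVars false

namespace Cfsg.Agent.H16.SN

open Subgroup Cfsg QuadraticMap
open Cfsg.Agent.LieClassical.OrthCore Cfsg.Agent.LieClassical.OrthTrans Cfsg.Agent.LieClassical.OrthForms
open Cfsg.Agent.LieClassical.OrthThree (I3 vec eq_vec quadForm_vec)

section Glue

variable {F U V : Type*} [Field F] [AddCommGroup U] [Module F U] [AddCommGroup V] [Module F V]

/-- the linear map `A` on `U`, extended trivially -/
def glueLin (p : V →ₗ[F] U) (j : U →ₗ[F] V) (A : U →ₗ[F] U) : V →ₗ[F] V :=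
  j ∘ₗ A ∘ₗ p + (LinearMap.id - j ∘ₗ p)

theorem glueLin_apply (p : V →ₗ[F] U) (j : U →ₗ[F] V) (A : U →ₗ[F] U) (v : V) :
    glueLin p j A v = j (A (p v)) + (v - j (p v)) := rfl

theorem glueLin_comp {p : V →ₗ[F] U} {j : U →ₗ[F] V} (h : ∀ u, p (j u) = u) (A B : U →ₗ[F] U) (v : V) :
    glueLin p j A (glueLin p j B v) = glueLin p j (A ∘ₗ B) v := by
  have h1 : p (glueLin p j B v) = B (p v) := by
    rw [glueLin_apply, map_add, map_sub, h, h, sub_self, add_zero]
  rw [glueLin_apply p j A, h1, glueLin_apply, glueLin_apply]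
  simp only [LinearMap.comp_apply]
  abel

/-- automorphisms of `U` as automorphisms of `V` -/
def glue (p : V →ₗ[F] U) (j : U →ₗ[F] V) (h : ∀ u, p (j u) = u) : (U ≃ₗ[F] U) →* (V ≃ₗ[F] V) where
  toFun A := LinearEquiv.ofLinearMap (glueLin p j A.toLinearMap) (glueLin p j A.symm.toLinearMap)
    (by
      ext v
      rw [LinearMap.comp_apply, glueLin_comp h, LinearMap.id_apply, glueLin_apply]
      simp)
    (by
      ext v
      rw [LinearMap.comp_apply, glueLin_comp h, LinearMap.id_apply, glueLin_apply]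
      simp)
  map_one' := by
    apply LinearEquiv.ext
    intro v
    change glueLin p j _ v = v
    rw [glueLin_apply]
    change j (p v) + (v - j (p v)) = v
    abel
  map_mul' A B := by
    apply LinearEquiv.ext
    intro v
    change glueLin p j _ v = glueLin p j _ (glueLin p j _ v)
    rw [glueLin_comp h]
    rfl

theorem glue_apply {p : V →ₗ[F] U} {j : U →ₗ[F] V} (h : ∀ u, p (j u) = u) (A : U ≃ₗ[F] U) (v : V) :
    glue p j h A v = j (A (p v)) + (v - j (p v)) := rfl

theorem glue_j {p : V →ₗ[F] U} {j : U →ₗ[F] V} (h : ∀ u, p (j u) = u) (A : U ≃ₗ[F] U) (u : U) :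
    glue p j h A (j u) = j (A u) := by
  rw [glue_apply, h, sub_self, add_zero]

theorem glue_ker {p : V →ₗ[F] U} {j : U →ₗ[F] V} (h : ∀ u, p (j u) = u) (A : U ≃ₗ[F] U) {r : V} (hr : p r = 0) :
    glue p j h A r = r := by
  rw [glue_apply, hr, map_zero, map_zero, sub_zero, zero_add]

theorem glue_injective {p : V →ₗ[F] U} {j : U →ₗ[F] V} (h : ∀ u, p (j u) = u) :
    Function.Injective (glue p j h) := by
  intro A B hAB
  apply LinearEquiv.ext
  intro u
  have h1 : glue p j h A (j u) = glue p j h B (j u) := by rw [hAB]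
  rw [glue_j, glue_j] at h1
  have h2 := congrArg p h1
  rwa [h, h] at h2

end Glue

section Frame

variable {F V : Type*} [Field F] [AddCommGroup V] [Module F V]

/-- a frame of a three-dimensional nondegenerate subspace -/
structure Fr3 (Q : QuadraticForm F V) (x y w : V) : Prop where
  hyp : Hyp Q x y
  xw : polar Q x w = 0
  yw : polar Q y w = 0
  ne : Q w ≠ 0
  two : (2 : F) ≠ 0

/-- the coordinates -/
def jm (Q : QuadraticForm F V) (x y w : V) : (I3 → F) →ₗ[F] V where
  toFun v := v (.inl ()) • w + v (.inr (.inl 0)) • x + (Q w * v (.inr (.inr 0))) • y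
  map_add' u v := by
    simp only [Pi.add_apply]
    module
  map_smul' a v := by
    simp only [Pi.smul_apply, smul_eq_mul, RingHom.id_apply]
    module

theorem jm_apply (Q : QuadraticForm F V) (x y w : V) (v : I3 → F) :
    jm Q x y w v = v (.inl ()) • w + v (.inr (.inl 0)) • x + (Q w * v (.inr (.inr 0))) • y := rfl

theorem jm_vec (Q : QuadraticForm F V) (x y w : V) (a b c : F) :
    jm Q x y w (vec a b c) = a • w + b • x + (Q w * c) • y := rfl

/-- the projection -/
def pm (Q : QuadraticForm F V) (x y w : V) : V →ₗ[F] (I3 → F) where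
  toFun v := vec ((2 * Q w)⁻¹ * polar Q w v) (polar Q y v) ((Q w)⁻¹ * polar Q x v)
  map_add' u v := by
    ext i
    rcases i with i | i | i <;> simp only [vec, Pi.add_apply, polar_add_right] <;> ring
  map_smul' a v := by
    ext i
    rcases i with i | i | i <;>
      simp only [vec, Pi.smul_apply, polar_smul_right, smul_eq_mul, RingHom.id_apply] <;> ring

theorem pm_apply (Q : QuadraticForm F V) (x y w v : V) :
    pm Q x y w v = vec ((2 * Q w)⁻¹ * polar Q w v) (polar Q y v) ((Q w)⁻¹ * polar Q x v) := rfl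

variable {Q : QuadraticForm F V} {x y w : V}

theorem Fr3.pj (h : Fr3 Q x y w) (v : I3 → F) : pm Q x y w (jm Q x y w v) = v := by
  have hx := h.hyp.polar_left
  have hy := h.hyp.polar_right
  have h2 := h.two
  have hw := h.ne
  rw [pm_apply, jm_apply, polar_add_right, polar_add_right, polar_add_right, polar_add_right, polar_add_right,
    polar_add_right]
  simp only [polar_smul_right]
  rw [polar_self' w, polar_comm Q w x, polar_comm Q w y, h.xw, h.yw, hx, hy, h.hyp.pair, h.hyp.pair']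
  conv_rhs => rw [eq_vec v]
  congr 1
  · simp only [smul_eq_mul]
    field_simp
    ring
  · simp only [smul_eq_mul]
    ring
  · simp only [smul_eq_mul]
    field_simp
    ring

theorem vec_eq_zero {a b c : F} (h : vec a b c = 0) : a = 0 ∧ b = 0 ∧ c = 0 :=
  ⟨congrFun h (.inl ()), congrFun h (.inr (.inl 0)), congrFun h (.inr (.inr 0))⟩

theorem Fr3.ker_iff (h : Fr3 Q x y w) (r : V) :
    pm Q x y w r = 0 ↔ polar Q x r = 0 ∧ polar Q y r = 0 ∧ polar Q w r = 0 := by
  constructor
  · intro h1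
    rw [pm_apply] at h1
    obtain ⟨e1, e2, e3⟩ := vec_eq_zero h1
    exact ⟨(mul_eq_zero.1 e3).resolve_left (inv_ne_zero h.ne), e2,
      (mul_eq_zero.1 e1).resolve_left (inv_ne_zero (mul_ne_zero h.two h.ne))⟩
  · rintro ⟨h1, h2, h3⟩
    rw [pm_apply, h1, h2, h3, mul_zero, mul_zero]
    ext i
    rcases i with i | i | i <;> rfl

theorem Fr3.perp (h : Fr3 Q x y w) {r : V} (hr : pm Q x y w r = 0) (v : I3 → F) : polar Q (jm Q x y w v) r = 0 := by
  obtain ⟨h1, h2, h3⟩ := (h.ker_iff r).1 hr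
  rw [jm_apply, polar_add_left, polar_add_left, polar_smul_left, polar_smul_left, polar_smul_left, h1, h2, h3]
  simp

theorem Fr3.Q_jm (h : Fr3 Q x y w) (v : I3 → F) : Q (jm Q x y w v) = Q w * Cfsg.quadFormOdd 1 F v := by
  conv_rhs => rw [eq_vec v, quadForm_vec]
  rw [jm_apply, Q_add, Q_add, QuadraticMap.map_smul, QuadraticMap.map_smul, QuadraticMap.map_smul, h.hyp.left,
    h.hyp.right, polar_add_left]
  simp only [polar_smul_left, polar_smul_right]
  rw [polar_comm Q w x, polar_comm Q w y, h.xw, h.yw, h.hyp.pair]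
  simp only [smul_eq_mul]
  ring

theorem Fr3.sub_ker (h : Fr3 Q x y w) (v : V) : pm Q x y w (v - jm Q x y w (pm Q x y w v)) = 0 := by
  rw [map_sub, h.pj, sub_self]

/-- a vector orthogonal to the kernel of the projection -/
theorem Fr3.eq_jm (h : Fr3 Q x y w) (hQ : Nondeg Q) {v : V} (hv : ∀ r, pm Q x y w r = 0 → polar Q v r = 0) :
    jm Q x y w (pm Q x y w v) = v := by
  have h0 := h.sub_ker v
  set r := v - jm Q x y w (pm Q x y w v) with hr
  have h1 : r = 0 := by
    apply hQ
    intro z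
    have h2 : z = jm Q x y w (pm Q x y w z) + (z - jm Q x y w (pm Q x y w z)) := by abel
    have h3 := h.sub_ker z
    rw [h2, polar_add_right, polar_comm Q r, h.perp h0, zero_add, hr, polar_sub_left, hv _ h3, h.perp h3, sub_zero]
  rw [hr, sub_eq_zero] at h1
  exact h1.symm

/-- the embedding of the automorphisms of the three-dimensional space -/
noncomputable def Fr3.gl (h : Fr3 Q x y w) : ((I3 → F) ≃ₗ[F] (I3 → F)) →* (V ≃ₗ[F] V) :=
  glue (pm Q x y w) (jm Q x y w) h.pj

theorem odd_apply (v : I3 → F) : oddForm 1 F v = Cfsg.quadFormOdd 1 F v := by rw [coe_oddForm]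

theorem Fr3.gl_mem_O (h : Fr3 Q x y w) {A : (I3 → F) ≃ₗ[F] (I3 → F)} (hA : A ∈ O (oddForm 1 F)) : h.gl A ∈ O Q := by
  rw [mem_O] at hA ⊢
  intro v
  have h3 := h.sub_ker v
  have h4 : ∀ u, Q (jm Q x y w u + (v - jm Q x y w (pm Q x y w v))) =
      Q w * Cfsg.quadFormOdd 1 F u + Q (v - jm Q x y w (pm Q x y w v)) := by
    intro u
    rw [Q_add, h.perp h3, h.Q_jm, add_zero]
  have h5 : Cfsg.quadFormOdd 1 F (A (pm Q x y w v)) = Cfsg.quadFormOdd 1 F (pm Q x y w v) := by
    rw [← odd_apply, ← odd_apply]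
    exact hA _
  change Q (jm Q x y w (A (pm Q x y w v)) + (v - jm Q x y w (pm Q x y w v))) = Q v
  rw [h4, h5, ← h4, add_sub_cancel]

variable (Q x y w) in
/-- the isometries which are trivial on the orthogonal complement -/
def OW : Subgroup (V ≃ₗ[F] V) where
  carrier := {h | h ∈ O Q ∧ ∀ r, pm Q x y w r = 0 → h r = r}
  mul_mem' := by
    rintro a b ⟨ha, ha'⟩ ⟨hb, hb'⟩
    refine ⟨mul_mem ha hb, fun r hr => ?_⟩
    change a (b r) = r
    rw [hb' r hr, ha' r hr]
  one_mem' := ⟨one_mem _, fun _ _ => rfl⟩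
  inv_mem' := by
    rintro a ⟨ha, ha'⟩
    refine ⟨inv_mem ha, fun r hr => ?_⟩
    have h1 : a⁻¹ (a r) = r := a.symm_apply_apply r
    rwa [ha' r hr] at h1

theorem mem_OW {h : V ≃ₗ[F] V} : h ∈ OW Q x y w ↔ h ∈ O Q ∧ ∀ r, pm Q x y w r = 0 → h r = r := Iff.rfl

theorem Fr3.map_O (h : Fr3 Q x y w) (hQ : Nondeg Q) : (O (oddForm 1 F)).map h.gl = OW Q x y w := by
  apply le_antisymm
  · rintro _ ⟨A, hA, rfl⟩
    exact ⟨h.gl_mem_O hA, fun r hr => glue_ker h.pj A hr⟩
  · rintro a ⟨ha, ha'⟩
    have key : ∀ b : V ≃ₗ[F] V, b ∈ OW Q x y w → ∀ u, jm Q x y w (pm Q x y w (b (jm Q x y w u))) =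
        b (jm Q x y w u) := by
      rintro b ⟨hb, hb'⟩ u
      apply h.eq_jm hQ
      intro r hr
      rw [← h.perp hr u, ← polar_map hb (jm Q x y w u) r, hb' r hr]
    let A : (I3 → F) ≃ₗ[F] (I3 → F) := LinearEquiv.ofLinearMap
      ((pm Q x y w) ∘ₗ a.toLinearMap ∘ₗ (jm Q x y w)) ((pm Q x y w) ∘ₗ (a⁻¹ : V ≃ₗ[F] V).toLinearMap ∘ₗ (jm Q x y w))
      (by
        ext1 i
        apply LinearMap.ext
        intro t
        change pm Q x y w (a (jm Q x y w (pm Q x y w (a⁻¹ (jm Q x y w _))))) = _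
        rw [key _ (inv_mem ⟨ha, ha'⟩)]
        have h1 : ∀ v, a (a⁻¹ v) = v := fun v => a.apply_symm_apply v
        rw [h1, h.pj]
        rfl)
      (by
        ext1 i
        apply LinearMap.ext
        intro t
        change pm Q x y w (a⁻¹ (jm Q x y w (pm Q x y w (a (jm Q x y w _))))) = _
        rw [key _ ⟨ha, ha'⟩]
        have h1 : ∀ v, a⁻¹ (a v) = v := fun v => a.symm_apply_apply v
        rw [h1, h.pj]
        rfl)
    have hA : ∀ u, A u = pm Q x y w (a (jm Q x y w u)) := fun _ => rfl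
    refine ⟨A, ?_, ?_⟩
    · intro u
      have h1 := h.Q_jm (A u)
      rw [hA, key _ ⟨ha, ha'⟩, ha, h.Q_jm] at h1
      rw [odd_apply, odd_apply, hA]
      exact (mul_left_cancel₀ h.ne h1).symm
    · apply LinearEquiv.ext
      intro v
      change jm Q x y w (A (pm Q x y w v)) + (v - jm Q x y w (pm Q x y w v)) = a v
      have h3 := h.sub_ker v
      rw [hA, key _ ⟨ha, ha'⟩, ← ha' _ h3, ← map_add, add_sub_cancel]

theorem Fr3.map_comm (h : Fr3 Q x y w) (hQ : Nondeg Q) :
    (Cfsg.Omega F ⇑(oddForm 1 F)).map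
      (h.gl.comp (Cfsg.Agent.LieClassical.OrthFinite.isometryHom (oddForm 1 F))) = ⁅OW Q x y w, OW Q x y w⁆ := by
  have h1 := Cfsg.Agent.LieClassical.OrthFinite.map_Omega (oddForm 1 F)
  rw [← Subgroup.map_map, h1, Subgroup.map_commutator, h.map_O hQ]

end Frame

end Cfsg.Agent.H16.SN
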